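import Cfsg.Agent.Lib.Classical.SL2
import Cfsg.Agent.Lib.Classical.Symplectic
import Cfsg.Agent.Lib.Classical.GroupAux

/-! Small isomorphisms between classical groups and symmetric or alternating groups. -/

set_option autoImplicit false

open Matrix Matrix.SpecialLinearGroup Equiv
open scoped MatrixGroups LinearAlgebra.Projectivization

namespace CA.Small

section generic
variable {G : Type*} [Group G]

theorem equiv_perm_of_injective {α : Type*} [Finite α] {n : ℕ} (f : G →* Perm α)
    (hf : Function.Injective f) (hα : Nat.card α = n) (hG : Nat.card G = n.factorial) :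
    Nonempty (G ≃* Perm (Fin n)) := by
  let e : α ≃ Fin n := Finite.equivFinOfCardEq hα
  refine ⟨MulEquiv.ofBijective (e.permCongrHom.toMonoidHom.comp f) ?_⟩
  refine (e.permCongrHom.injective.comp hf).bijective_of_nat_card_le ?_
  rw [hG, Nat.card_perm, Nat.card_fin]

theorem equiv_alt_of_injective {α : Type*} [Finite α] {n : ℕ} (f : G →* Perm α)
    (hf : Function.Injective f) (hα : Nat.card α = n) (hG : 2 * Nat.card G = n.factorial) :
    Nonempty (G ≃* alternatingGroup (Fin n)) := by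
  let e : α ≃ Fin n := Finite.equivFinOfCardEq hα
  let φ := e.permCongrHom.toMonoidHom.comp f
  have hφ : Function.Injective φ := e.permCongrHom.injective.comp hf
  have hc := Nat.card_congr (MonoidHom.ofInjective hφ).toEquiv
  have h1 := Subgroup.card_mul_index φ.range
  rw [← hc, Nat.card_perm, Nat.card_fin, ← hG, mul_comm 2] at h1
  have h0 : 0 < Nat.card G := by
    have := n.factorial_pos
    omega
  have h2 := Perm.eq_alternatingGroup_of_index_eq_two (Nat.eq_of_mul_eq_mul_left h0 h1)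
  exact ⟨(MonoidHom.ofInjective hφ).trans (MulEquiv.subgroupCongr h2)⟩

theorem exists_hom_of_graph {H : Type*} [Group H] (Γ : Subgroup (G × H))
    (hs : Γ.map (MonoidHom.fst G H) = ⊤) (hi : ∀ h, (1, h) ∈ Γ → h = 1) :
    ∃ f : G →* H, ∀ g, (g, f g) ∈ Γ := by
  let φ : Γ →* G := (MonoidHom.fst G H).comp Γ.subtype
  have hφ : Function.Bijective φ := by
    constructor
    · rw [injective_iff_map_eq_one]
      rintro ⟨⟨g, h⟩, hx⟩ (rfl : g = 1)
      exact Subtype.ext (Prod.ext rfl (hi h hx))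
    · intro g
      obtain ⟨x, hx, rfl⟩ : g ∈ Γ.map (MonoidHom.fst G H) := hs ▸ Subgroup.mem_top g
      exact ⟨⟨x, hx⟩, rfl⟩
  let e := MulEquiv.ofBijective φ hφ
  refine ⟨(MonoidHom.snd G H).comp (Γ.subtype.comp e.symm.toMonoidHom), fun g => ?_⟩
  have h1 : (e.symm g).1.1 = g := e.apply_symm_apply g
  have h2 := (e.symm g).2
  rwa [← Prod.mk.eta (p := (e.symm g).1), h1] at h2

/-- Pairs `(g, π)` such that `g` permutes the objects `w a b` as `π` permutes the indices. -/
def duadGraph {X α : Type*} (act : G →* Function.End X) (w : α → α → X) : Subgroup (G × Perm α) where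
  carrier := {x | ∀ a b, act x.1 (w a b) = w (x.2 a) (x.2 b)}
  mul_mem' {x y} hx hy a b := by
    rw [Prod.fst_mul, map_mul]
    change act x.1 (act y.1 _) = _
    rw [hy, hx]; rfl
  one_mem' a b := by rw [Prod.fst_one, map_one]; rfl
  inv_mem' {x} hx a b := by
    have h := hx (x.2⁻¹ a) (x.2⁻¹ b)
    rw [← Perm.mul_apply, ← Perm.mul_apply, mul_inv_cancel, Perm.one_apply, Perm.one_apply] at h
    change act x.1⁻¹ _ = w (x.2⁻¹ a) (x.2⁻¹ b)
    rw [← h]
    change (act x.1⁻¹ * act x.1) _ = _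
    rw [← map_mul, inv_mul_cancel, map_one]; rfl

theorem exists_hom_of_duads {X α : Type*} (act : G →* Function.End X) (w : α → α → X)
    (hw : ∀ a a', (∀ b, ∃ b', w a b = w a' b') → a = a')
    (hs : (duadGraph act w).map (MonoidHom.fst _ _) = ⊤) :
    ∃ f : G →* Perm α, ∀ g a b, act g (w a b) = w (f g a) (f g b) := by
  refine exists_hom_of_graph (duadGraph act w) hs fun π h => ?_
  ext a
  refine (hw a (π a) fun b => ⟨π b, ?_⟩).symm
  have := h a b
  rwa [map_one] at this

end generic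

section transport
variable {ι : Type*} [Fintype ι] [DecidableEq ι] {R S : Type*} [CommRing R] [CommRing S]

/-- Transport of `SL` along a ring isomorphism. -/
def slCongr (e : R ≃+* S) : SpecialLinearGroup ι R ≃* SpecialLinearGroup ι S :=
  MonoidHom.toMulEquiv (SpecialLinearGroup.map e.toRingHom) (SpecialLinearGroup.map e.symm.toRingHom)
    (by ext g i j; simp) (by ext g i j; simp)

/-- Transport of `PSL` along a ring isomorphism. -/
def pslCongr (e : R ≃+* S) : ProjectiveSpecialLinearGroup ι R ≃* ProjectiveSpecialLinearGroup ι S :=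
  CA.Cl.centerQuotCongr (slCongr e)

/-- Transport of the symplectic group along a ring homomorphism. -/
def spMap (f : R →+* S) : symplecticGroup ι R →* symplecticGroup ι S where
  toFun g := ⟨g.1.map f, SymplecticGroup.map_mem g.2 f⟩
  map_one' := Subtype.ext (by simp)
  map_mul' g h := Subtype.ext (by simp [Matrix.map_mul])

/-- Transport of the symplectic group along a ring isomorphism. -/
def spCongr (e : R ≃+* S) : symplecticGroup ι R ≃* symplecticGroup ι S :=
  MonoidHom.toMulEquiv (spMap e.toRingHom) (spMap e.symm.toRingHom)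
    (by ext g i j; simp [spMap]) (by ext g i j; simp [spMap])

end transport

variable {F : Type*} [Field F] [Fintype F]

theorem card_PSL_two : Nat.gcd 2 (Fintype.card F - 1) * Nat.card PSL(2, F) =
    Fintype.card F * (Fintype.card F ^ 2 - 1) := by
  rw [← CA.Lin.card_SL_two, ← CA.Lin.card_center_mul_card_PSL, CA.Lin.card_center_SL,
    Fintype.card_fin, Nat.card_eq_fintype_card (α := F)]

/-- For a trivial centre `SL` is `PSL`. -/
noncomputable def slEquivPSL {ι : Type*} [Fintype ι] [DecidableEq ι] [Nonempty ι]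
    (h : Nat.gcd (Fintype.card ι) (Fintype.card F - 1) = 1) :
    SpecialLinearGroup ι F ≃* ProjectiveSpecialLinearGroup ι F :=
  (QuotientGroup.quotientBot.symm).trans (QuotientGroup.quotientMulEquivOfEq (by
    symm
    rw [← Subgroup.card_eq_one, CA.Lin.card_center_SL, Nat.card_eq_fintype_card, h]))

theorem sl_two_two (hF : Fintype.card F = 2) : Nonempty (SL(2, F) ≃* Perm (Fin 3)) := by
  let e := slEquivPSL (ι := Fin 2) (F := F) (by simp [hF])
  refine equiv_perm_of_injective (Projectivization.PSLAction.toPermHom.comp e.toMonoidHom)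
    (ProjectiveSpecialLinearGroup.toPermHom_injective.comp e.injective) ?_ ?_
  · rw [CA.SL2.card_proj_line, Nat.card_eq_fintype_card, hF]
  · rw [CA.Lin.card_SL_two, hF]; rfl

theorem psl_two_three (hF : Fintype.card F = 3) :
    Nonempty (PSL(2, F) ≃* alternatingGroup (Fin 4)) := by
  refine equiv_alt_of_injective Projectivization.PSLAction.toPermHom
    ProjectiveSpecialLinearGroup.toPermHom_injective ?_ ?_
  · rw [CA.SL2.card_proj_line, Nat.card_eq_fintype_card, hF]
  · have := card_PSL_two (F := F)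
    rw [hF] at this
    exact this

theorem psl_two_four (hF : Fintype.card F = 4) :
    Nonempty (PSL(2, F) ≃* alternatingGroup (Fin 5)) := by
  refine equiv_alt_of_injective Projectivization.PSLAction.toPermHom
    ProjectiveSpecialLinearGroup.toPermHom_injective ?_ ?_
  · rw [CA.SL2.card_proj_line, Nat.card_eq_fintype_card, hF]
  · have := card_PSL_two (F := F)
    rw [hF] at this
    norm_num at this
    rw [this]; rfl

/-! ### `Sp₄(2)` and `S₆` -/

/-- Six vectors whose pairwise sums are the fifteen non-zero vectors. -/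
def v6 : Fin 6 → Fin 2 ⊕ Fin 2 → ZMod 2 :=
  ![Sum.elim ![0, 0] ![0, 0], Sum.elim ![0, 0] ![0, 1], Sum.elim ![0, 1] ![0, 0],
    Sum.elim ![0, 1] ![1, 1], Sum.elim ![1, 1] ![0, 1], Sum.elim ![1, 1] ![1, 1]]

/-- The form on `F₂⁴` written out. -/
def om4 (u v : Fin 2 ⊕ Fin 2 → ZMod 2) : ZMod 2 :=
  u (.inr 0) * v (.inl 0) - u (.inl 0) * v (.inr 0) + (u (.inr 1) * v (.inl 1) - u (.inl 1) * v (.inr 1))

theorem v6_check1 : ∀ a a', (∀ b, ∃ b', v6 a + v6 b = v6 a' + v6 b') → a = a' := by
  decide +kernel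

theorem v6_check2 : ∀ v : Fin 2 ⊕ Fin 2 → ZMod 2, ∃ i j, v = v6 i + v6 j := by
  decide +kernel

theorem v6_check3 : ∀ i j a b, v6 a + v6 b + om4 (v6 a + v6 b) (v6 i + v6 j) • (v6 i + v6 j) =
    v6 (swap i j a) + v6 (swap i j b) := by
  decide +kernel

theorem sp_four_two_zmod : Nonempty (symplecticGroup (Fin 2) (ZMod 2) ≃* Perm (Fin 6)) := by
  let act : symplecticGroup (Fin 2) (ZMod 2) →* Function.End (Fin 2 ⊕ Fin 2 → ZMod 2) :=
    MulAction.toEndHom
  obtain ⟨f, hf⟩ := exists_hom_of_duads act (fun a b => v6 a + v6 b) v6_check1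
    (CA.Sp.eq_top_of_tv_mem fun v c => by
      obtain rfl | rfl : c = 0 ∨ c = 1 := by revert c; decide
      · simp
      · obtain ⟨i, j, rfl⟩ := v6_check2 v
        refine ⟨(CA.Sp.tv (v6 i + v6 j) 1, swap i j), fun a b => ?_, rfl⟩
        change CA.Sp.tv (v6 i + v6 j) 1 • (v6 a + v6 b) = v6 (swap i j a) + v6 (swap i j b)
        rw [CA.Sp.tv_smul, one_mul, CA.Sp.om_eq, Fin.sum_univ_two]
        exact v6_check3 i j a b)
  refine equiv_perm_of_injective f ?_ (by simp) ?_
  · rw [injective_iff_map_eq_one]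
    intro g hg
    refine CA.Sp.ext_smul fun v => ?_
    obtain ⟨i, j, rfl⟩ := v6_check2 v
    have := hf g i j
    rw [hg] at this
    rw [one_smul]
    exact this
  · rw [CA.Sp.card_Sp]
    simp [Finset.prod_range_succ]
    rfl

theorem sp_four_two (hF : Fintype.card F = 2) :
    Nonempty (symplecticGroup (Fin 2) F ≃* Perm (Fin 6)) := by
  obtain ⟨e⟩ := sp_four_two_zmod
  exact ⟨(spCongr (FiniteField.ringEquivOfCardEq (K' := ZMod 2) (by simpa using hF))).trans e⟩

/-! ### `SL₄(2)` and `A₈` -/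

/-- Eight alternating matrices whose pairwise sums are the non-degenerate ones. -/
def w8 : Fin 8 → Matrix (Fin 4) (Fin 4) (ZMod 2) :=
  ![!![0, 0, 0, 0; 0, 0, 0, 0; 0, 0, 0, 0; 0, 0, 0, 0],
   !![0, 0, 0, 1; 0, 0, 1, 0; 0, 1, 0, 0; 1, 0, 0, 0],
   !![0, 0, 1, 1; 0, 0, 0, 1; 1, 0, 0, 0; 1, 1, 0, 0],
   !![0, 1, 1, 0; 1, 0, 1, 1; 1, 1, 0, 0; 0, 1, 0, 0],
   !![0, 1, 1, 1; 1, 0, 0, 0; 1, 0, 0, 1; 1, 0, 1, 0],
   !![0, 1, 0, 0; 1, 0, 1, 0; 0, 1, 0, 1; 0, 0, 1, 0],
   !![0, 1, 0, 1; 1, 0, 0, 1; 0, 0, 0, 1; 1, 1, 1, 0],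
   !![0, 0, 1, 0; 0, 0, 1, 1; 1, 1, 0, 1; 0, 1, 1, 0]]

/-- The permutations induced by the elementary transvections. -/
def p8 : Fin 4 → Fin 4 → Perm (Fin 8) :=
  ![![1, swap 0 4 * swap 1 5 * swap 2 6 * swap 3 7, swap 0 2 * swap 1 3 * swap 4 6 * swap 5 7,
      swap 0 1 * swap 2 3 * swap 4 5 * swap 6 7],
   ![swap 0 5 * swap 1 6 * swap 2 4 * swap 3 7, 1, swap 0 1 * swap 2 3 * swap 4 7 * swap 5 6,
      swap 0 3 * swap 1 2 * swap 4 6 * swap 5 7],
   ![swap 0 7 * swap 1 2 * swap 3 5 * swap 4 6, swap 0 1 * swap 2 7 * swap 3 6 * swap 4 5, 1,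
      swap 0 5 * swap 1 4 * swap 2 6 * swap 3 7],
   ![swap 0 1 * swap 2 7 * swap 3 4 * swap 5 6, swap 0 2 * swap 1 7 * swap 3 5 * swap 4 6,
      swap 0 6 * swap 1 5 * swap 2 4 * swap 3 7, 1]]

theorem w8_check1 : ∀ a a', (∀ b, ∃ b', w8 a + w8 b = w8 a' + w8 b') → a = a' := by
  decide +kernel

theorem w8_check2 : ∀ i j : Fin 4, i ≠ j → ∀ a,
    Matrix.transvection i j 1 * w8 a * Matrix.transpose (Matrix.transvection i j 1) =
      w8 (p8 i j a) + w8 (p8 i j 0) := by
  decide +kernel

theorem w8_check3 : ∀ a, w8 a + w8 a = 0 := by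
  decide +kernel

theorem w8_check4 : w8 (p8 0 1 0) + w8 (p8 0 1 1) ≠ w8 0 + w8 1 := by
  decide +kernel

theorem card_sl_four_two : Nat.card SL(4, ZMod 2) = 20160 := by
  have := CA.Lin.card_SL_mul (F := ZMod 2) 4 (by norm_num)
  rw [ZMod.card, Fin.prod_univ_four] at this
  generalize Nat.card SL(4, ZMod 2) = c at this
  norm_num at this
  exact this

theorem sl_four_two_zmod : Nonempty (SL(4, ZMod 2) ≃* alternatingGroup (Fin 8)) := by
  let act : SL(4, ZMod 2) →* Function.End (Matrix (Fin 4) (Fin 4) (ZMod 2)) :=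
    { toFun := fun g A => g.1 * A * g.1ᵀ
      map_one' := by funext A; simp; rfl
      map_mul' := fun g h => by
        funext A
        change _ = g.1 * (h.1 * A * h.1ᵀ) * g.1ᵀ
        simp [Matrix.mul_assoc] }
  have key : ∀ (i j : Fin 4) (hij : i ≠ j) a b,
      act (transvection hij 1) (w8 a + w8 b) = w8 (p8 i j a) + w8 (p8 i j b) := by
    intro i j hij a b
    change Matrix.transvection i j 1 * (w8 a + w8 b) * Matrix.transpose (Matrix.transvection i j 1) = _
    rw [Matrix.mul_add, Matrix.add_mul, w8_check2 i j hij, w8_check2 i j hij, add_add_add_comm,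
      w8_check3, add_zero]
  obtain ⟨f, hf⟩ := exists_hom_of_duads act (fun a b => w8 a + w8 b) w8_check1 (by
    rw [eq_top_iff]
    intro g _
    refine CA.Lin.transvection_induction _ (fun i j hij c => ?_) (fun _ _ => mul_mem) g
    obtain rfl | rfl : c = 0 ∨ c = 1 := by revert c; decide
    · simp
    · exact ⟨(_, p8 i j), key i j hij, rfl⟩)
  have hs : IsSimpleGroup SL(4, ZMod 2) := by
    have := CA.Lin.PSL_isSimpleGroup (ι := Fin 4) (F := ZMod 2) (by simp)
    exact (slEquivPSL (ι := Fin 4) (F := ZMod 2) (by simp)).isSimpleGroup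
  refine equiv_alt_of_injective f ?_ (by simp) ?_
  · rw [← MonoidHom.ker_eq_bot_iff]
    refine (hs.eq_bot_or_eq_top_of_normal _ inferInstance).resolve_right fun h => ?_
    have h1 : f (transvection (show (0 : Fin 4) ≠ 1 by decide) 1) = 1 :=
      (h ▸ Subgroup.mem_top _ : _ ∈ f.ker)
    have h2 := hf (transvection (show (0 : Fin 4) ≠ 1 by decide) 1) 0 1
    rw [key, h1] at h2
    exact w8_check4 h2
  · rw [card_sl_four_two]; rfl

theorem psl_four_two (hF : Fintype.card F = 2) :
    Nonempty (PSL(4, F) ≃* alternatingGroup (Fin 8)) := by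
  obtain ⟨e⟩ := sl_four_two_zmod
  exact ⟨((pslCongr (FiniteField.ringEquivOfCardEq (K' := ZMod 2) (by simpa using hF))).trans
    (slEquivPSL (ι := Fin 4) (F := ZMod 2) (by simp)).symm).trans e⟩

/-! ### `SL₂(3)` -/

theorem sl_two_three (hF : Fintype.card F = 3) :
    ∃ Q : Subgroup SL(2, F), Q.Normal ∧ Q.index = 3 ∧ Nonempty (Q ≃* QuaternionGroup 2) := by
  let P : Sylow 2 SL(2, F) := default
  have hc : Nat.card SL(2, F) = 2 ^ 3 * 3 := by rw [CA.Lin.card_SL_two, hF]; rfl
  have h8 : Nat.card P = 2 ^ 3 := CA.Lin.card_sylow_of_card_eq hc (by norm_num) P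
  obtain ⟨k, -, ⟨f⟩⟩ := CA.SL2.sylow_two_quaternion (by rw [hF]; decide) P
  have hk : 2 ^ k = 2 := by
    have := Nat.card_congr f.toEquiv
    rw [h8, Nat.card_eq_fintype_card, QuaternionGroup.card] at this
    omega
  rw [hk] at f
  obtain ⟨e⟩ := psl_two_three hF
  let φ : SL(2, F) →* alternatingGroup (Fin 4) := e.toMonoidHom.comp (QuotientGroup.mk' _)
  have hφ : Function.Surjective φ := e.surjective.comp (QuotientGroup.mk'_surjective _)
  have hker : φ.ker = Subgroup.center SL(2, F) := by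
    ext g
    simp [φ]
  have hZ : IsPGroup 2 (Subgroup.center SL(2, F)) := IsPGroup.of_card (n := 1) (by
    rw [CA.Lin.card_center_SL, Nat.card_eq_fintype_card, hF]; rfl)
  have hsub := alternatingGroup.subsingleton_two_sylow (α := Fin 4) (by simp)
  have hn : ((P : Subgroup SL(2, F)).map φ).Normal := (P.mapSurjective hφ).normal_of_subsingleton
  have hP : ((P : Subgroup SL(2, F)).map φ).comap φ = P :=
    Subgroup.comap_map_eq_self (hker ▸ hZ.le_sylow_of_normal P)
  refine ⟨P, hP ▸ inferInstance, ?_, ⟨f⟩⟩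
  have := Subgroup.card_mul_index (P : Subgroup SL(2, F))
  rw [hc, h8] at this
  omega

end CA.Small
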